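import Cfsg.Agent.H192.Af.Defs
import Cfsg.Agent.H192.Af.Alt
import Cfsg.Agent.H884.CxBd
import Cfsg.Agent.H539.CaseA
import Cfsg.Agent.S2653

/-!
# S5731, the affine core, piece AF5c: the simple groups not of Lie type in characteristic `p`

`smallCase : SmallCase LP`, `LP p T` = "`T` has a name of Lie type in characteristic `p`", from

* `hname` : the finite simple groups have names (`H436.name`);
* `ExistsGL` : AF5a, from modules of exponent `p` to matrices;
* `LbBig` : AF5b, the lower bound `lb g` is at least `(log₂ |T|) ^ 3` for `|T|` large.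
-/

set_option autoImplicit false

namespace Cfsg.Agent.H84.AF

open Cfsg Cfsg.Agent.OrdDiv Cfsg.Agent.H436 Cfsg.Agent.H927.SgX Cfsg.Agent.H915.GN Cfsg.Agent.H192.Af
open Cfsg.Agent.H884.Cx (lb lb_le)

universe u v

/-- "of Lie type in characteristic `p`" -/
def LP (p : ℕ) (T : Type v) [Group T] : Prop := ∃ g, Cond g ∧ HasChar p g ∧ Real g T

/-- AF5a: from modules to matrices -/
def ExistsGL : Prop :=
  ∀ (p : ℕ), p.Prime → ∀ (T : Type v) [Group T] [Finite T] [IsSimpleGroup T], ¬ IsMulCommutative T →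
    ∀ (L : Type v) [Group L] [Finite L], commutator L = ⊤ → (L ⧸ Subgroup.center L ≃* T) →
    ∀ (X : Type u) [AddCommGroup X] [Finite X] [DistribMulAction L X], (∀ x : X, p • x = 0) →
    (∃ (l : L) (x : X), l • x ≠ x) →
      ∃ (F : Type u) (_ : Field F) (_ : Finite F) (n : ℕ) (P : Subgroup (Matrix.GeneralLinearGroup (Fin n) F)),
        ((p : ℕ) : F) = 0 ∧ ⁅P, P⁆ = P ∧ Nonempty ((P ⧸ (Cfsg.Geo.scalars (Fin n) F).subgroupOf P) ≃* T) ∧
        Nat.card F ^ n ≤ Nat.card X

/-- AF5b: the lower bound is large -/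
def LbBig : Prop :=
  ∀ K : ℕ, ∃ B : ℕ, ∀ (g : Grp) (r : ℕ) (T : Type v) [Group T], Cond g → r.Prime → HasChar r g → Real g T →
    B ≤ Nat.card T → K + (Nat.log 2 (Nat.card T)) ^ 3 ≤ lb g

/-! ### names -/

theorem exists_char_of {q : ℕ} (h : IsPrimePow q) : ∃ s, s.Prime ∧ ∃ f, q = s ^ f := by
  obtain ⟨s, f, hs, -, h⟩ := (isPrimePow_nat_iff q).1 h
  exact ⟨s, hs, f, h.symm⟩

theorem exists_char {g : Grp} (hg : Cond g) (hlie : IsLieN g) : ∃ s, s.Prime ∧ HasChar s g := by
  cases g with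
  | psl n q => exact exists_char_of hg.2.2
  | psp n q => exact exists_char_of hg.2.2
  | psu n q => exact exists_char_of hg.2.2
  | oodd n q => exact exists_char_of hg.2.2
  | oplus n q => exact exists_char_of hg.2
  | ominus n q => exact exists_char_of hg.2
  | g2 q => exact exists_char_of hg.2
  | f4 q => exact exists_char_of hg
  | e6 q => exact exists_char_of hg
  | e7 q => exact exists_char_of hg
  | e8 q => exact exists_char_of hg
  | te6 q => exact exists_char_of hg
  | td4 q => exact exists_char_of hg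
  | sz q => obtain ⟨m, -, h⟩ := hg; exact ⟨2, Nat.prime_two, _, h⟩
  | ree q => obtain ⟨m, -, h⟩ := hg; exact ⟨3, Nat.prime_three, _, h⟩
  | tf4 q => obtain ⟨m, -, h⟩ := hg; exact ⟨2, Nat.prime_two, _, h⟩
  | _ => exact hlie.elim

/-- the three kinds of names -/
theorem name_cases (g : Grp) : (∃ m, g = .alt m) ∨ ordN g < 2 ^ 200 ∨ IsLieN g := by
  cases g with
  | alt m => exact .inl ⟨m, rfl⟩
  | psl n q => exact .inr (.inr trivial)
  | psp n q => exact .inr (.inr trivial)
  | psu n q => exact .inr (.inr trivial)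
  | oodd n q => exact .inr (.inr trivial)
  | oplus n q => exact .inr (.inr trivial)
  | ominus n q => exact .inr (.inr trivial)
  | g2 q => exact .inr (.inr trivial)
  | f4 q => exact .inr (.inr trivial)
  | e6 q => exact .inr (.inr trivial)
  | e7 q => exact .inr (.inr trivial)
  | e8 q => exact .inr (.inr trivial)
  | te6 q => exact .inr (.inr trivial)
  | td4 q => exact .inr (.inr trivial)
  | sz q => exact .inr (.inr trivial)
  | ree q => exact .inr (.inr trivial)
  | tf4 q => exact .inr (.inr trivial)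
  | _ => exact .inr (.inl (by decide +kernel))

/-! ### numbers -/

theorem num_lie {m t k c : ℕ} (hk : 2 ^ k ≤ t) (hc : c ≤ t ^ k) (ht : 2 ^ (2 * m + 1) ≤ t) :
    c ^ m ≤ 2 ^ (Nat.log 2 t) ^ 3 := by
  have ht0 : t ≠ 0 := by
    rintro rfl
    have : 0 < 2 ^ (2 * m + 1) := by positivity
    omega
  have hkL : k ≤ Nat.log 2 t := Nat.le_log_of_pow_le (by norm_num) hk
  have hmL : 2 * m + 1 ≤ Nat.log 2 t := Nat.le_log_of_pow_le (by norm_num) ht
  have hlt : t < 2 ^ (Nat.log 2 t + 1) := Nat.lt_pow_succ_log_self (by norm_num) t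
  set L := Nat.log 2 t with hL
  calc c ^ m ≤ (t ^ k) ^ m := Nat.pow_le_pow_left hc m
    _ ≤ ((2 ^ (L + 1)) ^ k) ^ m := Nat.pow_le_pow_left (Nat.pow_le_pow_left hlt.le k) m
    _ = 2 ^ ((L + 1) * k * m) := by rw [← pow_mul, ← pow_mul, mul_assoc]
    _ ≤ 2 ^ L ^ 3 := by
        refine Nat.pow_le_pow_right (by norm_num) ?_
        calc (L + 1) * k * m ≤ (L + 1) * L * m := by gcongr
          _ ≤ L ^ 3 := by
            have h1 : (L + 1) * m ≤ L * L := by nlinarith
            calc (L + 1) * L * m = L * ((L + 1) * m) := by ring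
              _ ≤ L * (L * L) := Nat.mul_le_mul_left _ h1
              _ = L ^ 3 := by ring

theorem num_alt {m k c : ℕ} (hk : 4 ≤ k) (h : c ^ (2 * m) ≤ 2 ^ k) : c ^ m ≤ 2 ^ (k - 2) := by
  have h1 : (c ^ m) ^ 2 ≤ (2 ^ (k - 2)) ^ 2 := by
    rw [← pow_mul, ← pow_mul, mul_comm m 2]
    exact h.trans (Nat.pow_le_pow_right (by norm_num) (by omega))
  exact (Nat.pow_le_pow_iff_left (by norm_num)).1 h1

/-- **AF5c** -/
theorem smallCase
    (hname : ∀ (T : Type v) [Group T] [Finite T] [IsSimpleGroup T], ¬ IsMulCommutative T → ∃ g, IsNamed g T)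
    (hGL : ExistsGL.{u, v}) (hlb : LbBig.{v}) : SmallCase.{u, v} LP := by
  intro m
  obtain ⟨K1, hK1, halt⟩ := alt_elt_aut.{v, u} (2 * m)
  obtain ⟨B, hB⟩ := hlb 0
  refine ⟨max (max (K1.factorial + 1) B) (max (2 ^ 200) (2 ^ (2 * m + 1))), ?_⟩
  intro p T _ _ _ hp hT hK hLP L _ _ hL ⟨e⟩
  have hp1 : Fact p.Prime := ⟨hp⟩
  have hKa : K1.factorial + 1 ≤ Nat.card T := (le_max_left _ _).trans ((le_max_left _ _).trans hK)
  have hKb : B ≤ Nat.card T := (le_max_right _ _).trans ((le_max_left _ _).trans hK)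
  have hKc : 2 ^ 200 ≤ Nat.card T := (le_max_left _ _).trans ((le_max_right _ _).trans hK)
  have hKd : 2 ^ (2 * m + 1) ≤ Nat.card T := (le_max_right _ _).trans ((le_max_right _ _).trans hK)
  obtain ⟨g, hg⟩ := hname T hT
  rcases name_cases g with ⟨k, rfl⟩ | hs | hlie
  · -- alternating groups
    obtain ⟨f⟩ : Nonempty (T ≃* ↥(alternatingGroup (Fin k))) := hg.real
    have hk : K1 ≤ k := by
      by_contra hcon
      push Not at hcon
      have h1 : Nat.card T ≤ k.factorial := by
        rw [Nat.card_congr f.toEquiv]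
        calc Nat.card (alternatingGroup (Fin k)) ≤ Nat.card (Equiv.Perm (Fin k)) := Subgroup.card_le_card_group _
          _ = k.factorial := by rw [Nat.card_perm, Nat.card_eq_fintype_card, Fintype.card_fin]
      have h2 : k.factorial ≤ K1.factorial := Nat.factorial_le hcon.le
      omega
    obtain ⟨y, hy1, hy2⟩ := halt k hk p hp L (Subgroup.center L) le_rfl hL (e.trans f)
    refine ⟨y, fun X _ _ _ hX hpX => hy1 X hX hpX, fun X _ _ _ hpX hne => ?_⟩
    obtain ⟨F, _, _, n, P, hpF, hPP, ⟨e'⟩, hle⟩ := hGL p hp T hT L hL e X hpX hne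
    have := Fintype.ofFinite F
    have hchar : CharP F p := (CharP.charP_iff_prime_eq_zero hp).2 hpF
    have h1 := S2653.result (F := F) p n k P ((Cfsg.Geo.scalars (Fin n) F).subgroupOf P) ⟨e'.trans f⟩ (by omega)
    have h2 : k - 2 ≤ n := by
      split_ifs at h1 <;> omega
    have hF : 2 ≤ Nat.card F := Finite.one_lt_card
    calc _ ≤ 2 ^ (k - 2) := num_alt (by omega) hy2
      _ ≤ 2 ^ n := Nat.pow_le_pow_right (by norm_num) h2
      _ ≤ Nat.card F ^ n := Nat.pow_le_pow_left hF n
      _ ≤ Nat.card X := hle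
  · exfalso
    rw [hg.ord] at hKc
    omega
  · -- Lie type in another characteristic
    obtain ⟨r, hr, hch⟩ := exists_char hg.cond hlie
    have hrp : r ≠ p := by
      rintro rfl
      exact hLP ⟨g, hg.cond, hch, hg.real⟩
    refine ⟨1, fun X _ _ _ hX hpX => ?_, fun X _ _ _ hpX hne => ?_⟩
    · obtain ⟨x, hx⟩ := exists_ne (0 : X)
      exact ⟨x, hx, one_smul _ _⟩
    · obtain ⟨F, _, _, n, P, hpF, hPP, ⟨e'⟩, hle⟩ := hGL p hp T hT L hL e X hpX hne
      have hchar : CharP F p := (CharP.charP_iff_prime_eq_zero hp).2 hpF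
      have hrF : (r : F) ≠ 0 := by
        intro h
        have := (CharP.cast_eq_zero_iff F p r).1 h
        exact hrp ((Nat.prime_dvd_prime_iff_eq hp hr).1 this).symm
      have hna : ∃ x y : T, x * y ≠ y * x := by
        by_contra hcon
        push Not at hcon
        exact hT ⟨⟨hcon⟩⟩
      have h1 : lb g ≤ n := lb_le hg.cond hr hch hna hg.real hrF P hPP e'
      have h2 := hB g r T hg.cond hr hch hg.real hKb
      have hF : 2 ≤ Nat.card F := Finite.one_lt_card
      have hcard : Nat.card (L ⧸ Subgroup.center L) = Nat.card T := Nat.card_congr e.toEquiv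
      obtain ⟨k, hk1, hk2⟩ := Cfsg.Agent.H539.CaseA.card_le_pow (R := L ⧸ Subgroup.center L)
        (MonoidHom.id (MulAut (L ⧸ Subgroup.center L))) Function.injective_id
      rw [hcard] at hk1 hk2
      have h3 : Nat.card {α : MulAut (L ⧸ Subgroup.center L) // α ((1 : L) : L ⧸ Subgroup.center L) = (1 : L)} ≤
          Nat.card T ^ k := (Nat.card_le_card_of_injective _ Subtype.val_injective).trans hk2
      calc _ ≤ 2 ^ (Nat.log 2 (Nat.card T)) ^ 3 := num_lie hk1 h3 hKd
        _ ≤ 2 ^ n := Nat.pow_le_pow_right (by norm_num) (by omega)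
        _ ≤ Nat.card F ^ n := Nat.pow_le_pow_left hF n
        _ ≤ Nat.card X := hle

end Cfsg.Agent.H84.AF
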